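import Mathlib

/-!
# A self-dual coprime module is alternating plus symmetric

Split off an invariant piece on which the form is nondegenerate; the form induced on one perpendicular
through the projection to the other is again invariant and nondegenerate.
-/

namespace Cfsg.Agent.SelfDual

open Module LinearMap
open LinearMap (BilinForm)

variable {F : Type*} [Field F] {G : Type*} [Group G]
variable {V : Type*} [AddCommGroup V] [Module F V]

/-- A subspace invariant under the representation. -/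
def Inv (ρ : Representation F G V) (U : Submodule F V) : Prop := ∀ g : G, ∀ u ∈ U, ρ g u ∈ U

theorem rho_inv_apply (ρ : Representation F G V) (g : G) (v : V) : ρ g (ρ g⁻¹ v) = v := by
  rw [← Module.End.mul_apply, ← map_mul, mul_inv_cancel, map_one, Module.End.one_apply]

theorem rho_apply_inv (ρ : Representation F G V) (g : G) (v : V) : ρ g⁻¹ (ρ g v) = v := by
  rw [← Module.End.mul_apply, ← map_mul, inv_mul_cancel, map_one, Module.End.one_apply]

theorem inv_inf {ρ : Representation F G V} {U W : Submodule F V} (hU : Inv ρ U) (hW : Inv ρ W) :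
    Inv ρ (U ⊓ W) := fun g u hu => ⟨hU g u hu.1, hW g u hu.2⟩

theorem inv_sup {ρ : Representation F G V} {U W : Submodule F V} (hU : Inv ρ U) (hW : Inv ρ W) :
    Inv ρ (U ⊔ W) := fun g x hx => by
  obtain ⟨u, hu, w, hw, rfl⟩ := Submodule.mem_sup.1 hx
  rw [map_add]
  exact Submodule.add_mem_sup (hU g u hu) (hW g w hw)

/-- Maschke. -/
theorem exists_inv_isCompl [Finite G] (hG : (Nat.card G : F) ≠ 0) (ρ : Representation F G V)
    {U : Submodule F V} (hU : Inv ρ U) : ∃ C, Inv ρ C ∧ IsCompl U C := by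
  classical
  have := Fintype.ofFinite G
  obtain ⟨C₀, hC₀⟩ := U.exists_isCompl
  set π := U.projection C₀ hC₀ with hπ
  set e : V →ₗ[F] V := (Nat.card G : F)⁻¹ • ∑ g : G, ρ g ∘ₗ π ∘ₗ ρ g⁻¹ with he
  have hmem : ∀ v, e v ∈ U := fun v => by
    simp only [he, LinearMap.smul_apply, LinearMap.sum_apply, LinearMap.comp_apply]
    exact U.smul_mem _ (U.sum_mem fun g _ => hU g _ (Submodule.projection_apply_mem hC₀ _))
  have hid : ∀ u ∈ U, e u = u := fun u hu => by
    simp only [he, LinearMap.smul_apply, LinearMap.sum_apply, LinearMap.comp_apply]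
    rw [Finset.sum_congr rfl fun g _ => by
      rw [Submodule.projection_apply_of_mem_left hC₀ (hU g⁻¹ u hu), rho_inv_apply],
      Finset.sum_const, Finset.card_univ, ← Nat.card_eq_fintype_card,
      ← Nat.cast_smul_eq_nsmul F, smul_smul, inv_mul_cancel₀ hG, one_smul]
  have hcomm : ∀ h v, e (ρ h v) = ρ h (e v) := fun h v => by
    simp only [he, LinearMap.smul_apply, LinearMap.sum_apply, LinearMap.comp_apply, map_smul,
      map_sum]
    congr 1
    refine Fintype.sum_equiv (Equiv.mulLeft h⁻¹) _ _ fun g => ?_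
    show ρ g (π (ρ g⁻¹ (ρ h v))) = ρ h (ρ (h⁻¹ * g) (π (ρ (h⁻¹ * g)⁻¹ v)))
    rw [mul_inv_rev, inv_inv, map_mul, map_mul, Module.End.mul_apply, Module.End.mul_apply,
      rho_inv_apply]
  refine ⟨LinearMap.ker e, fun g v hv => ?_, ?_, ?_⟩
  · rw [LinearMap.mem_ker] at hv ⊢
    rw [hcomm, hv, map_zero]
  · rw [disjoint_iff, eq_bot_iff]
    rintro v ⟨hvU, hve⟩
    rw [Submodule.mem_bot, ← hid v hvU]
    exact LinearMap.mem_ker.1 hve
  · rw [codisjoint_iff, eq_top_iff]
    intro v _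
    exact Submodule.mem_sup.2 ⟨e v, hmem v, v - e v,
      LinearMap.mem_ker.2 (by rw [map_sub, hid _ (hmem v), sub_self]), add_sub_cancel _ _⟩

/-- A map nondegenerate on a subspace splits it off. -/
theorem isCompl_ker_of [FiniteDimensional F V] {P : Submodule F V} (f : V →ₗ[F] Dual F P)
    (hf : ∀ x ∈ P, f x = 0 → x = 0) : IsCompl P (ker f) := by
  have hinj : Function.Injective (f ∘ₗ P.subtype) := (injective_iff_map_eq_zero _).2
    fun x hx => Subtype.ext (hf x x.2 hx)
  have hsurj : Function.Surjective (f ∘ₗ P.subtype) :=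
    (LinearMap.injective_iff_surjective_of_finrank_eq_finrank
      Subspace.dual_finrank_eq.symm).1 hinj
  refine ⟨?_, ?_⟩
  · rw [disjoint_iff, eq_bot_iff]
    rintro v ⟨hv, hv'⟩
    exact (Submodule.mem_bot F).2 (hf v hv (LinearMap.mem_ker.1 hv'))
  · rw [codisjoint_iff, eq_top_iff]
    intro v _
    obtain ⟨x, hx⟩ := hsurj (f v)
    exact Submodule.mem_sup.2 ⟨x, x.2, v - x, LinearMap.mem_ker.2 (by
      rw [map_sub]; exact sub_eq_zero.2 hx.symm), add_sub_cancel _ _⟩

/-- The conclusion: alternating plus symmetric. -/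
def Decomp (p : ℕ) (ρ : Representation F G V) : Prop :=
  ∃ U W : Submodule F V, IsCompl U W ∧ Inv ρ U ∧ Inv ρ W ∧
    (∃ A : BilinForm F V, (∀ x : V, A x x = 0) ∧
      (∀ g : G, ∀ x ∈ U, ∀ y ∈ U, A (ρ g x) (ρ g y) = A x y) ∧
      (∀ x ∈ U, (∀ y ∈ U, A x y = 0) → x = 0)) ∧
    (∃ S : BilinForm F V, (∀ x y : V, S x y = S y x) ∧
      (∀ g : G, ∀ x ∈ W, ∀ y ∈ W, S (ρ g x) (ρ g y) = S x y) ∧
      (∀ x ∈ W, (∀ y ∈ W, S x y = 0) → x = 0)) ∧
    (p = 2 → ∀ g : G, ∀ w ∈ W, ρ g w = w)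

/-- An invariant piece: the form is nondegenerate on it and it carries an alternating or a
symmetric invariant nondegenerate form. -/
def Piece (p : ℕ) (ρ : Representation F G V) (B : BilinForm F V) (P : Submodule F V) : Prop :=
  P ≠ ⊥ ∧ Inv ρ P ∧ (∀ x ∈ P, (∀ y ∈ P, B x y = 0) → x = 0) ∧
    ∃ b : BilinForm F V, (∀ g : G, ∀ x ∈ P, ∀ y ∈ P, b (ρ g x) (ρ g y) = b x y) ∧
      (∀ x ∈ P, (∀ y ∈ P, b x y = 0) → x = 0) ∧
      ((∀ x ∈ P, b x x = 0) ∨
        ((∀ x ∈ P, ∀ y ∈ P, b x y = b y x) ∧ (p = 2 → ∀ g : G, ∀ x ∈ P, ρ g x = x)))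

theorem piece_of_irreducible (p : ℕ) [Fact p.Prime] [CharP F p] [Finite F]
    (ρ : Representation F G V) (B : BilinForm F V)
    (hBinv : ∀ g : G, ∀ x y : V, B (ρ g x) (ρ g y) = B x y) {W : Submodule F V} (hW0 : W ≠ ⊥)
    (hW : Inv ρ W) (hmin : ∀ U, U ≤ W → Inv ρ U → U = ⊥ ∨ U = W)
    (hBW : ∃ x ∈ W, ∃ y ∈ W, B x y ≠ 0) : Piece p ρ B W := by
  classical
  have hrad : ∀ b : BilinForm F V, (∀ g : G, ∀ x ∈ W, ∀ y ∈ W, b (ρ g x) (ρ g y) = b x y) →
      (∃ x ∈ W, ∃ y ∈ W, b x y ≠ 0) → ∀ x ∈ W, (∀ y ∈ W, b x y = 0) → x = 0 := by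
    intro b hb ⟨x0, hx0, y0, hy0, hne⟩ x hx hxy
    let U : Submodule F V :=
      { carrier := {x | x ∈ W ∧ ∀ y ∈ W, b x y = 0}
        add_mem' := fun {a c} ha hc => ⟨W.add_mem ha.1 hc.1, fun y hy => by
          rw [map_add, LinearMap.add_apply, ha.2 y hy, hc.2 y hy, add_zero]⟩
        zero_mem' := ⟨W.zero_mem, fun y _ => by simp⟩
        smul_mem' := fun c a ha => ⟨W.smul_mem c ha.1, fun y hy => by
          rw [map_smul, LinearMap.smul_apply, ha.2 y hy, smul_zero]⟩ }
    have hU : Inv ρ U := fun g u hu => ⟨hW g u hu.1, fun y hy => by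
      have := hb g u hu.1 _ (hW g⁻¹ y hy)
      rw [rho_inv_apply] at this
      rw [this]
      exact hu.2 _ (hW g⁻¹ y hy)⟩
    rcases hmin U (fun u hu => hu.1) hU with h | h
    · have h1 : x ∈ U := ⟨hx, hxy⟩
      rwa [h, Submodule.mem_bot] at h1
    · have h1 : x0 ∈ U := h.symm ▸ hx0
      exact absurd (h1.2 y0 hy0) hne
  refine ⟨hW0, hW, hrad B (fun g x _ y _ => hBinv g x y) hBW, ?_⟩
  by_cases hs : ∃ x ∈ W, ∃ y ∈ W, (B + B.flip) x y ≠ 0
  · have hinv : ∀ g : G, ∀ x ∈ W, ∀ y ∈ W,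
        (B + B.flip) (ρ g x) (ρ g y) = (B + B.flip) x y := fun g x _ y _ => by
      simp [hBinv]
    refine ⟨B + B.flip, hinv, hrad _ hinv hs, ?_⟩
    by_cases hp : p = 2
    · subst hp
      left
      intro x _
      simp [CharTwo.add_self_eq_zero]
    · exact Or.inr ⟨fun x _ y _ => by simp [add_comm], fun h => absurd h hp⟩
  push Not at hs
  have hskew : ∀ x ∈ W, ∀ y ∈ W, B x y + B y x = 0 := fun x hx y hy => by simpa using hs x hx y hy
  refine ⟨B, fun g x _ y _ => hBinv g x y, hrad B (fun g x _ y _ => hBinv g x y) hBW, ?_⟩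
  by_cases hp : p = 2
  · subst hp
    let U : Submodule F V :=
      { carrier := {x | x ∈ W ∧ B x x = 0}
        add_mem' := fun {a c} ha hc => ⟨W.add_mem ha.1 hc.1, by
          have := hskew a ha.1 c hc.1
          simp only [map_add, LinearMap.add_apply, ha.2, hc.2]
          linear_combination this⟩
        zero_mem' := ⟨W.zero_mem, by simp⟩
        smul_mem' := fun c a ha => ⟨W.smul_mem c ha.1, by simp [ha.2]⟩ }
    rcases hmin U (fun u hu => hu.1) (fun g u hu => ⟨hW g u hu.1, by rw [hBinv]; exact hu.2⟩)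
      with h | h
    · right
      refine ⟨fun x hx y hy => ?_, fun _ g x hx => ?_⟩
      · have := hskew x hx y hy
        rwa [CharTwo.add_eq_zero] at this
      · have h2 : ρ g x - x ∈ U := by
          refine ⟨W.sub_mem (hW g x hx) hx, ?_⟩
          have := hskew (ρ g x) (hW g x hx) x hx
          simp only [map_sub, LinearMap.sub_apply, hBinv]
          linear_combination (CharTwo.add_self_eq_zero (B x x)) - this
        rw [h, Submodule.mem_bot, sub_eq_zero] at h2
        exact h2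
    · exact Or.inl fun x hx => (h.symm ▸ hx : x ∈ U).2
  · left
    intro x hx
    have h2 : (2 : F) ≠ 0 := fun h => hp <| by
      have h3 : p ∣ 2 := (CharP.cast_eq_zero_iff F p 2).1 (by exact_mod_cast h)
      exact (Nat.prime_dvd_prime_iff_eq Fact.out Nat.prime_two).1 h3
    have h4 := hskew x hx x hx
    rw [← two_mul] at h4
    exact (mul_eq_zero.1 h4).resolve_left h2

theorem exists_piece (p : ℕ) [Fact p.Prime] [CharP F p] [Finite F] [Finite G]
    [FiniteDimensional F V] [Nontrivial V] (hG : (Nat.card G : F) ≠ 0)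
    (ρ : Representation F G V) (B : BilinForm F V) (hB : B.Nondegenerate)
    (hBinv : ∀ g : G, ∀ x y : V, B (ρ g x) (ρ g y) = B x y) : ∃ P, Piece p ρ B P := by
  classical
  have hex : ∃ d, ∃ W : Submodule F V, W ≠ ⊥ ∧ Inv ρ W ∧ finrank F W = d :=
    ⟨_, ⊤, top_ne_bot, fun g u _ => Submodule.mem_top, rfl⟩
  obtain ⟨W, hW0, hW, hWd⟩ := Nat.find_spec hex
  have hmin : ∀ U, U ≤ W → Inv ρ U → U = ⊥ ∨ U = W := fun U hUW hU => by
    by_cases h : U = ⊥
    · exact Or.inl h
    · have h1 := Nat.find_le (h := hex) ⟨U, h, hU, rfl⟩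
      exact Or.inr (Submodule.eq_of_le_of_finrank_le hUW (by omega))
  by_cases hBW : ∃ x ∈ W, ∃ y ∈ W, B x y ≠ 0
  · exact ⟨W, piece_of_irreducible p ρ B hBinv hW0 hW hmin hBW⟩
  push Not at hBW
  -- the two perpendiculars of `W`
  let fR : V →ₗ[F] Dual F W := (B.flip).compl₂ W.subtype
  let fL : V →ₗ[F] Dual F W := B.compl₂ W.subtype
  have hfR : ∀ v (w : W), fR v w = B w v := fun v w => rfl
  have hfL : ∀ v (w : W), fL v w = B v w := fun v w => rfl
  have hR : Inv ρ (ker fR) := fun g v hv => LinearMap.mem_ker.2 (LinearMap.ext fun w => by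
    rw [hfR, ← hBinv g⁻¹, rho_apply_inv]
    have := LinearMap.congr_fun (LinearMap.mem_ker.1 hv) ⟨_, hW g⁻¹ _ w.2⟩
    rw [hfR] at this
    simpa using this)
  have hL : Inv ρ (ker fL) := fun g v hv => LinearMap.mem_ker.2 (LinearMap.ext fun w => by
    rw [hfL, ← hBinv g⁻¹, rho_apply_inv]
    have := LinearMap.congr_fun (LinearMap.mem_ker.1 hv) ⟨_, hW g⁻¹ _ w.2⟩
    rw [hfL] at this
    simpa using this)
  -- nondegeneracy of the pairing with an invariant subspace, on the side of `W`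
  have hWleft : ∀ (C : Submodule F V), Inv ρ C → ¬ C ≤ ker fR →
      ∀ w ∈ W, (∀ c ∈ C, B w c = 0) → w = 0 := by
    intro C hC hCR w hw hwc
    let U : Submodule F V :=
      { carrier := {x | x ∈ W ∧ ∀ c ∈ C, B x c = 0}
        add_mem' := fun {a b} ha hb => ⟨W.add_mem ha.1 hb.1, fun y hy => by
          rw [map_add, LinearMap.add_apply, ha.2 y hy, hb.2 y hy, add_zero]⟩
        zero_mem' := ⟨W.zero_mem, fun y _ => by simp⟩
        smul_mem' := fun t a ha => ⟨W.smul_mem t ha.1, fun y hy => by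
          rw [map_smul, LinearMap.smul_apply, ha.2 y hy, smul_zero]⟩ }
    rcases hmin U (fun u hu => hu.1) (fun g u hu => ⟨hW g u hu.1, fun c hc => by
      rw [← hBinv g⁻¹, rho_apply_inv]; exact hu.2 _ (hC g⁻¹ c hc)⟩) with h | h
    · have h1 : w ∈ U := ⟨hw, hwc⟩
      rwa [h, Submodule.mem_bot] at h1
    · exact absurd (fun c hc => LinearMap.mem_ker.2 (LinearMap.ext fun x => by
        rw [hfR]; exact (h.symm ▸ x.2 : (x : V) ∈ U).2 c hc)) hCR
  have hWright : ∀ (C : Submodule F V), Inv ρ C → ¬ C ≤ ker fL →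
      ∀ w ∈ W, (∀ c ∈ C, B c w = 0) → w = 0 := by
    intro C hC hCL w hw hwc
    let U : Submodule F V :=
      { carrier := {x | x ∈ W ∧ ∀ c ∈ C, B c x = 0}
        add_mem' := fun {a b} ha hb => ⟨W.add_mem ha.1 hb.1, fun y hy => by
          rw [map_add, ha.2 y hy, hb.2 y hy, add_zero]⟩
        zero_mem' := ⟨W.zero_mem, fun y _ => by simp⟩
        smul_mem' := fun t a ha => ⟨W.smul_mem t ha.1, fun y hy => by
          rw [map_smul, ha.2 y hy, smul_zero]⟩ }
    rcases hmin U (fun u hu => hu.1) (fun g u hu => ⟨hW g u hu.1, fun c hc => by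
      rw [← hBinv g⁻¹, rho_apply_inv]; exact hu.2 _ (hC g⁻¹ c hc)⟩) with h | h
    · have h1 : w ∈ U := ⟨hw, hwc⟩
      rwa [h, Submodule.mem_bot] at h1
    · exact absurd (fun c hc => LinearMap.mem_ker.2 (LinearMap.ext fun x => by
        rw [hfL]; exact (h.symm ▸ x.2 : (x : V) ∈ U).2 c hc)) hCL
  -- the partner of `W`
  obtain ⟨U, hU, hUR, hUL, hWU⟩ : ∃ U : Submodule F V, Inv ρ U ∧
      (∀ u ∈ U, (∀ w ∈ W, B u w = 0) → u = 0) ∧ (∀ w ∈ W, (∀ u ∈ U, B w u = 0) → w = 0) ∧
        (∀ u ∈ U, (∀ w ∈ W, B w u = 0) → u = 0) := by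
    by_cases hLR : ker fL = ker fR
    · obtain ⟨C, hC, hCc⟩ := exists_inv_isCompl hG ρ hR
      have hker : ∀ f : V →ₗ[F] Dual F W, ker f = ker fR → ∀ u ∈ C, f u = 0 → u = 0 := by
        intro f hf u hu h
        have h1 : u ∈ ker fR ⊓ C := ⟨hf ▸ LinearMap.mem_ker.2 h, hu⟩
        rwa [hCc.disjoint.eq_bot, Submodule.mem_bot] at h1
      have hCR : ¬ C ≤ ker fR := by
        intro hle
        have htop : ker fR = ⊤ := by
          rw [eq_top_iff, ← hCc.sup_eq_top]
          exact sup_le le_rfl hle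
        obtain ⟨w0, hw0, hw00⟩ := Submodule.exists_mem_ne_zero_of_ne_bot hW0
        refine hw00 (hB.1 w0 fun y => ?_)
        have h2 : y ∈ ker fR := htop ▸ Submodule.mem_top
        exact LinearMap.congr_fun (LinearMap.mem_ker.1 h2) ⟨w0, hw0⟩
      exact ⟨C, hC, fun u hu h => hker fL hLR u hu (LinearMap.ext fun w => h w w.2),
        hWleft C hC hCR, fun u hu h => hker fR rfl u hu (LinearMap.ext fun w => h w w.2)⟩
    -- different perpendiculars: a diagonal
    have hrank : ∀ f : V →ₗ[F] Dual F W, Function.Surjective f →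
        finrank F (ker f) + finrank F W = finrank F V := fun f hf => by
      rw [← Subspace.dual_finrank_eq (K := F) (V := W), add_comm,
        ← LinearMap.finrank_range_add_finrank_ker f, LinearMap.range_eq_top.2 hf, finrank_top]
    have hsurjR : Function.Surjective fR := by
      rw [← LinearMap.dualMap_injective_iff, injective_iff_map_eq_zero]
      intro φ hφ
      obtain ⟨w, rfl⟩ := (Module.evalEquiv F W).surjective φ
      rw [LinearEquiv.map_eq_zero_iff]
      exact Subtype.ext (hB.1 w fun y => LinearMap.congr_fun hφ y)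
    have hsurjL : Function.Surjective fL := by
      rw [← LinearMap.dualMap_injective_iff, injective_iff_map_eq_zero]
      intro φ hφ
      obtain ⟨w, rfl⟩ := (Module.evalEquiv F W).surjective φ
      rw [LinearEquiv.map_eq_zero_iff]
      exact Subtype.ext (hB.2 w fun y => LinearMap.congr_fun hφ y)
    have hdim : finrank F (ker fR) = finrank F (ker fL) := by
      have h1 := hrank fR hsurjR
      have h2 := hrank fL hsurjL
      omega
    have hnle1 : ¬ ker fL ≤ ker fR := fun h =>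
      hLR (Submodule.eq_of_le_of_finrank_le h hdim.le)
    have hnle2 : ¬ ker fR ≤ ker fL := fun h =>
      hLR (Submodule.eq_of_le_of_finrank_le h hdim.ge).symm
    obtain ⟨T, hT, hTc⟩ := exists_inv_isCompl hG ρ (inv_inf hR hL)
    set W₁ := T ⊓ ker fL
    set W₂ := T ⊓ ker fR
    have hdisj : ∀ x ∈ T, x ∈ ker fR → x ∈ ker fL → x = 0 := fun x hx h1 h2 => by
      have h3 : x ∈ (ker fR ⊓ ker fL) ⊓ T := ⟨⟨h1, h2⟩, hx⟩
      rwa [hTc.disjoint.eq_bot, Submodule.mem_bot] at h3
    have hsplit : ∀ K : Submodule F V, ker fR ⊓ ker fL ≤ K →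
        K = (ker fR ⊓ ker fL) ⊔ (T ⊓ K) := fun K hK => by
      rw [← sup_inf_assoc_of_le T hK, hTc.sup_eq_top, top_inf_eq]
    have hW₁R : ¬ W₁ ≤ ker fR := fun h => hnle1 (by
      rw [hsplit (ker fL) inf_le_right]; exact sup_le inf_le_left h)
    have hW₂L : ¬ W₂ ≤ ker fL := fun h => hnle2 (by
      rw [hsplit (ker fR) inf_le_left]; exact sup_le inf_le_right h)
    let U : Submodule F V :=
      { carrier := {x | ∃ a ∈ W₁, ∃ b ∈ W₂, x = a + b ∧ fR a = fL b}
        add_mem' := by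
          rintro x y ⟨a, ha, b, hb, rfl, e⟩ ⟨a', ha', b', hb', rfl, e'⟩
          exact ⟨a + a', W₁.add_mem ha ha', b + b', W₂.add_mem hb hb', by abel,
            by rw [map_add, map_add, e, e']⟩
        zero_mem' := ⟨0, W₁.zero_mem, 0, W₂.zero_mem, by simp, by simp⟩
        smul_mem' := by
          rintro t x ⟨a, ha, b, hb, rfl, e⟩
          exact ⟨t • a, W₁.smul_mem t ha, t • b, W₂.smul_mem t hb, smul_add _ _ _,
            by rw [map_smul, map_smul, e]⟩ }
    have hab : ∀ a ∈ W₁, ∀ b ∈ W₂, ∀ w : W, B (a + b) w = fL b w ∧ B w (a + b) = fR a w := by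
      intro a ha b hb w
      have h1 : fL a = 0 := LinearMap.mem_ker.1 ha.2
      have h2 : fR b = 0 := LinearMap.mem_ker.1 hb.2
      have h1' := LinearMap.congr_fun h1 w
      have h2' := LinearMap.congr_fun h2 w
      rw [hfL] at h1'
      rw [hfR] at h2'
      constructor
      · rw [map_add, LinearMap.add_apply, h1', LinearMap.zero_apply, zero_add, hfL]
      · rw [map_add, h2', LinearMap.zero_apply, add_zero, hfR]
    have hinjW₁ : ∀ a ∈ W₁, fR a = 0 → a = 0 := fun a ha h =>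
      hdisj a ha.1 (LinearMap.mem_ker.2 h) ha.2
    have hinjW₂ : ∀ b ∈ W₂, fL b = 0 → b = 0 := fun b hb h =>
      hdisj b hb.1 hb.2 (LinearMap.mem_ker.2 h)
    have hsurj₂ : Function.Surjective (fL ∘ₗ W₂.subtype) := by
      rw [← LinearMap.dualMap_injective_iff, injective_iff_map_eq_zero]
      intro φ hφ
      obtain ⟨w, rfl⟩ := (Module.evalEquiv F W).surjective φ
      rw [LinearEquiv.map_eq_zero_iff]
      exact Subtype.ext (hWright W₂ (inv_inf hT hR) hW₂L w w.2 fun c hc =>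
        LinearMap.congr_fun hφ ⟨c, hc⟩)
    refine ⟨U, ?_, ?_, ?_, ?_⟩
    · rintro g x ⟨a, ha, b, hb, rfl, e⟩
      refine ⟨ρ g a, inv_inf hT hL g a ha, ρ g b, inv_inf hT hR g b hb, map_add _ _ _, ?_⟩
      refine LinearMap.ext fun w => ?_
      rw [hfR, hfL, ← hBinv g⁻¹ (w : V) (ρ g a), ← hBinv g⁻¹ (ρ g b) (w : V), rho_apply_inv,
        rho_apply_inv]
      exact LinearMap.congr_fun e ⟨_, hW g⁻¹ _ w.2⟩
    · rintro x ⟨a, ha, b, hb, rfl, e⟩ h
      have hb0 : b = 0 := hinjW₂ b hb (LinearMap.ext fun w => by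
        rw [← (hab a ha b hb w).1]; exact h w w.2)
      have ha0 : a = 0 := hinjW₁ a ha (by rw [e, hb0, map_zero])
      rw [ha0, hb0, add_zero]
    · intro w hw h
      refine hWleft W₁ (inv_inf hT hL) hW₁R w hw fun a ha => ?_
      obtain ⟨b, hb⟩ := hsurj₂ (fR a)
      have h3 := h (a + b) ⟨a, ha, b, b.2, rfl, hb.symm⟩
      rw [show w = ((⟨w, hw⟩ : W) : V) from rfl, (hab a ha b b.2 _).2, hfR] at h3
      exact h3
    · rintro x ⟨a, ha, b, hb, rfl, e⟩ h
      have ha0 : a = 0 := hinjW₁ a ha (LinearMap.ext fun w => by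
        rw [← (hab a ha b hb w).2]; exact h w w.2)
      have hb0 : b = 0 := hinjW₂ b hb (by rw [← e, ha0, map_zero])
      rw [ha0, hb0, add_zero]
  -- the hyperbolic piece
  have hdisjWU : Disjoint W U := by
    rw [disjoint_iff, eq_bot_iff]
    rintro x ⟨hxW, hxU⟩
    exact (Submodule.mem_bot F).2 (hWU x hxU fun w hw => hBW w hw x hxW)
  obtain ⟨C, hC⟩ := (W ⊔ U).exists_isCompl
  let πW : V →ₗ[F] V := W.subtype ∘ₗ (W.projectionOnto (U ⊔ C) (by
    refine ⟨hdisjWU.disjoint_sup_right_of_disjoint_sup_left hC.disjoint, ?_⟩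
    rw [codisjoint_iff, ← sup_assoc]
    exact hC.sup_eq_top))
  let πU : V →ₗ[F] V := LinearMap.id - πW
  have hπ : ∀ w ∈ W, ∀ u ∈ U, πW (w + u) = w ∧ πU (w + u) = u := by
    intro w hw u hu
    have h1 : πW (w + u) = w := by
      simp only [πW, LinearMap.comp_apply, map_add, Submodule.coe_subtype]
      rw [Submodule.projectionOnto_apply_of_mem_left _ hw,
        Submodule.projectionOnto_apply_of_mem_right _ (Submodule.mem_sup_left hu)]
      simp
    exact ⟨h1, by simp only [πU, LinearMap.sub_apply, LinearMap.id_apply, h1, add_sub_cancel_left]⟩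
  refine ⟨W ⊔ U, ne_bot_of_le_ne_bot hW0 le_sup_left, inv_sup hW hU, ?_, ?_⟩
  · intro x hx h
    obtain ⟨w, hw, u, hu, rfl⟩ := Submodule.mem_sup.1 hx
    have hu0 : u = 0 := hUR u hu fun w' hw' => by
      have := h w' (Submodule.mem_sup_left hw')
      rwa [map_add, LinearMap.add_apply, hBW w hw w' hw', zero_add] at this
    have hw0 : w = 0 := hUL w hw fun u' hu' => by
      have := h u' (Submodule.mem_sup_right hu')
      rwa [hu0, add_zero] at this
    rw [hw0, hu0, add_zero]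
  · let b : BilinForm F V := B.compl₁₂ πW πU - (B.compl₁₂ πW πU).flip
    have hb : ∀ x y, b x y = B (πW x) (πU y) - B (πW y) (πU x) := fun x y => rfl
    refine ⟨b, fun g x hx y hy => ?_, fun x hx h => ?_, Or.inl fun x _ => by rw [hb, sub_self]⟩
    · obtain ⟨w, hw, u, hu, rfl⟩ := Submodule.mem_sup.1 hx
      obtain ⟨w', hw', u', hu', rfl⟩ := Submodule.mem_sup.1 hy
      rw [hb, hb, map_add (ρ g), map_add (ρ g)]
      simp only [(hπ _ (hW g w hw) _ (hU g u hu)).1, (hπ _ (hW g w hw) _ (hU g u hu)).2,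
        (hπ _ (hW g w' hw') _ (hU g u' hu')).1, (hπ _ (hW g w' hw') _ (hU g u' hu')).2,
        (hπ w hw u hu).1, (hπ w hw u hu).2, (hπ w' hw' u' hu').1, (hπ w' hw' u' hu').2, hBinv]
    · obtain ⟨w, hw, u, hu, rfl⟩ := Submodule.mem_sup.1 hx
      have hw0 : w = 0 := hUL w hw fun u' hu' => by
        have := h u' (Submodule.mem_sup_right hu')
        rw [hb, (hπ w hw u hu).1, (hπ w hw u hu).2] at this
        have h2 := hπ 0 W.zero_mem u' hu'
        rw [zero_add] at h2
        simpa [h2.1, h2.2] using this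
      have hu0 : u = 0 := hWU u hu fun w' hw' => by
        have := h w' (Submodule.mem_sup_left hw')
        rw [hb, (hπ w hw u hu).1, (hπ w hw u hu).2] at this
        have h2 := hπ w' hw' 0 U.zero_mem
        rw [add_zero] at h2
        simpa [h2.1, h2.2] using this
      rw [hw0, hu0, add_zero]

end Cfsg.Agent.SelfDual
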