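import Mathlib
import Cfsg.Agent.SelfDual.Decomp

/-!
# Induction for the decomposition of a self-dual module
-/

namespace Cfsg.Agent.SelfDual

open Module LinearMap
open LinearMap (BilinForm)

universe u

variable {F : Type*} [Field F] {G : Type*} [Group G]

theorem decomp (p : ℕ) [Fact p.Prime] [CharP F p] [Finite F] [Finite G]
    (hG : (Nat.card G : F) ≠ 0) :
    ∀ (n : ℕ) (V : Type u) [AddCommGroup V] [Module F V] [FiniteDimensional F V]
      (ρ : Representation F G V) (B : BilinForm F V), finrank F V = n → B.Nondegenerate →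
      (∀ g : G, ∀ x y : V, B (ρ g x) (ρ g y) = B x y) → Decomp p ρ := by
  intro n
  induction n using Nat.strong_induction_on with
  | _ n ih =>
  intro V _ _ _ ρ B hn hB hBinv
  rcases subsingleton_or_nontrivial V with hV | hV
  · refine ⟨⊥, ⊤, isCompl_bot_top, fun g u hu => ?_, fun g u _ => Submodule.mem_top,
      ⟨0, fun x => rfl, fun g x _ y _ => rfl, fun x _ _ => Subsingleton.elim _ _⟩,
      ⟨0, fun x y => rfl, fun g x _ y _ => rfl, fun x _ _ => Subsingleton.elim _ _⟩,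
      fun _ g w _ => Subsingleton.elim _ _⟩
    rw [Subsingleton.elim (ρ g u) u]; exact hu
  obtain ⟨P, hP0, hP, hPB, b, hbinv, hbnd, hbtype⟩ := exists_piece p hG ρ B hB hBinv
  let fR : V →ₗ[F] Dual F P := (B.flip).compl₂ P.subtype
  let fL : V →ₗ[F] Dual F P := B.compl₂ P.subtype
  have hfR : ∀ v (w : P), fR v w = B w v := fun v w => rfl
  have hfL : ∀ v (w : P), fL v w = B v w := fun v w => rfl
  have hcL : IsCompl P (ker fL) :=
    isCompl_ker_of fL fun x hx h => hPB x hx fun y hy => LinearMap.congr_fun h ⟨y, hy⟩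
  have hPB' : ∀ x ∈ P, (∀ y ∈ P, B y x = 0) → x = 0 := by
    have hn' : (B.compl₁₂ P.subtype P.subtype).Nondegenerate :=
      LinearMap.BilinForm.Nondegenerate.ofSeparatingLeft fun x h =>
        Subtype.ext (hPB x x.2 fun y hy => h ⟨y, hy⟩)
    exact fun x hx h => congrArg Subtype.val (hn'.2 ⟨x, hx⟩ fun y => h y y.2)
  have hcR : IsCompl P (ker fR) :=
    isCompl_ker_of fR fun x hx h => hPB' x hx fun y hy => LinearMap.congr_fun h ⟨y, hy⟩
  have hR : Inv ρ (ker fR) := fun g v hv => LinearMap.mem_ker.2 (LinearMap.ext fun w => by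
    rw [hfR, ← hBinv g⁻¹, rho_apply_inv]
    have := LinearMap.congr_fun (LinearMap.mem_ker.1 hv) ⟨_, hP g⁻¹ _ w.2⟩
    rw [hfR] at this
    simpa using this)
  have hL : Inv ρ (ker fL) := fun g v hv => LinearMap.mem_ker.2 (LinearMap.ext fun w => by
    rw [hfL, ← hBinv g⁻¹, rho_apply_inv]
    have := LinearMap.congr_fun (LinearMap.mem_ker.1 hv) ⟨_, hP g⁻¹ _ w.2⟩
    rw [hfL] at this
    simpa using this)
  set C := ker fR with hCdef
  -- the form on the perpendicular
  set π := (ker fL).projection P hcL.symm with hπdef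
  have hπmem : ∀ v, π v ∈ ker fL := fun v => Submodule.projection_apply_mem _ v
  have hπsub : ∀ v, v - π v ∈ P := fun v => by
    obtain ⟨a, ha, c, hc, rfl⟩ : ∃ a ∈ ker fL, ∃ c ∈ P, a + c = v :=
      Submodule.mem_sup.1 (hcL.symm.sup_eq_top.symm ▸ Submodule.mem_top)
    have h1 : π (a + c) = a := by
      rw [map_add, hπdef, Submodule.projection_apply_of_mem_left _ ha,
        Submodule.projection_apply, Submodule.projectionOnto_apply_of_mem_right _ hc]
      simp
    rw [h1, add_sub_cancel_left]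
    exact hc
  have hπcomm : ∀ g v, π (ρ g v) = ρ g (π v) := fun g v => by
    have h1 : π (ρ g v) - ρ g (π v) ∈ P ⊓ ker fL := by
      refine ⟨?_, (ker fL).sub_mem (hπmem _) (hL g _ (hπmem _))⟩
      have : π (ρ g v) - ρ g (π v) = ρ g (v - π v) - (ρ g v - π (ρ g v)) := by
        rw [map_sub]; abel
      rw [this]
      exact P.sub_mem (hP g _ (hπsub v)) (hπsub _)
    rw [hcL.disjoint.eq_bot, Submodule.mem_bot, sub_eq_zero] at h1
    exact h1
  let ρC : Representation F G C :=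
    { toFun := fun g => (ρ g).restrict (hR g)
      map_one' := LinearMap.ext fun x => Subtype.ext (by simp)
      map_mul' := fun g h => LinearMap.ext fun x => Subtype.ext (by simp) }
  let β : BilinForm F C := B.compl₁₂ (π ∘ₗ C.subtype) C.subtype
  have hβ : ∀ x y : C, β x y = B (π x) y := fun x y => rfl
  have hβnd : β.Nondegenerate := LinearMap.BilinForm.Nondegenerate.ofSeparatingLeft fun x h => by
    have h1 : π (x : V) = 0 := hB.1 _ fun y => by
      obtain ⟨a, ha, c, hc, rfl⟩ : ∃ a ∈ P, ∃ c ∈ C, a + c = y :=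
        Submodule.mem_sup.1 (hcR.sup_eq_top.symm ▸ Submodule.mem_top)
      have h2 := LinearMap.congr_fun (LinearMap.mem_ker.1 (hπmem x)) ⟨a, ha⟩
      rw [hfL] at h2
      rw [map_add, h2, LinearMap.zero_apply, zero_add]
      exact h ⟨c, hc⟩
    have h3 : (x : V) ∈ P ⊓ C := ⟨by simpa [h1] using hπsub x, x.2⟩
    rw [hcR.disjoint.eq_bot, Submodule.mem_bot] at h3
    exact Subtype.ext h3
  have hlt : finrank F C < n := by
    have h1 := Submodule.finrank_add_eq_of_isCompl hcR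
    have h2 : 0 < finrank F P := Nat.pos_of_ne_zero (mt Submodule.finrank_eq_zero.1 hP0)
    omega
  obtain ⟨U₀, W₀, hc₀, hU₀, hW₀, ⟨A₀, hA0, hAinv, hAnd⟩, ⟨S₀, hS0, hSinv, hSnd⟩, h2⟩ :=
    ih _ hlt C ρC β rfl hβnd fun g x y => by
      rw [hβ, hβ]
      show B (π (ρ g x)) (ρ g y) = _
      rw [hπcomm, hBinv]
  set U₁ := U₀.map C.subtype
  set W₁ := W₀.map C.subtype
  have hU₁ : Inv ρ U₁ := by
    rintro g _ ⟨u, hu, rfl⟩
    exact ⟨ρC g u, hU₀ g u hu, rfl⟩
  have hW₁ : Inv ρ W₁ := by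
    rintro g _ ⟨u, hu, rfl⟩
    exact ⟨ρC g u, hW₀ g u hu, rfl⟩
  have hsup : U₁ ⊔ W₁ = C := by
    rw [← Submodule.map_sup, hc₀.sup_eq_top, Submodule.map_subtype_top]
  have hinf : U₁ ⊓ W₁ = ⊥ := by
    rw [← Submodule.map_inf _ C.injective_subtype, hc₀.inf_eq_bot, Submodule.map_bot]
  -- projections
  let πP : V →ₗ[F] V := P.projection C hcR
  let πC : V →ₗ[F] C := C.projectionOnto P hcR.symm
  have hadd : ∀ x ∈ P, ∀ c : C, πP (x + c) = x ∧ πC (x + c) = c := by
    intro x hx c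
    constructor
    · rw [map_add, show πP x = x from Submodule.projection_apply_of_mem_left hcR hx,
        show πP (c : V) = 0 by
          rw [show πP (c : V) = (P.projectionOnto C hcR c : V) from rfl,
            Submodule.projectionOnto_apply_of_mem_right _ c.2]; rfl, add_zero]
    · rw [map_add, show πC x = 0 from Submodule.projectionOnto_apply_of_mem_right _ hx,
        show πC (c : V) = c from Submodule.projectionOnto_apply_left _ c, zero_add]
  have hcompl : ∀ X Y : Submodule F C, IsCompl X Y →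
      IsCompl (P ⊔ X.map C.subtype) (Y.map C.subtype) := by
    intro X Y hXY
    refine ⟨?_, ?_⟩
    · rw [disjoint_iff, eq_bot_iff]
      rintro v ⟨hv, hv'⟩
      obtain ⟨y, hy, rfl⟩ := hv'
      obtain ⟨x, hx, _, ⟨z, hz, rfl⟩, e⟩ := Submodule.mem_sup.1 hv
      have h1 := (hadd x hx z).2
      have h2 := (hadd 0 P.zero_mem y).2
      rw [zero_add] at h2
      rw [show x + (z : V) = (y : V) from e, h2] at h1
      have h3 : y ∈ X ⊓ Y := ⟨h1 ▸ hz, hy⟩
      rw [hXY.inf_eq_bot, Submodule.mem_bot] at h3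
      rw [Submodule.mem_bot, h3]; rfl
    · rw [codisjoint_iff, sup_assoc, ← Submodule.map_sup, hXY.sup_eq_top,
        Submodule.map_subtype_top]
      exact hcR.sup_eq_top
  rcases hbtype with halt | ⟨hsym, htriv⟩
  · -- alternating piece
    refine ⟨P ⊔ U₁, W₁, hcompl _ _ hc₀, inv_sup hP hU₁, hW₁, ⟨b.compl₁₂ πP πP + A₀.compl₁₂ πC πC,
      fun x => ?_, ?_, ?_⟩, ⟨S₀.compl₁₂ πC πC, fun x y => hS0 _ _, ?_, ?_⟩, ?_⟩
    · show b (πP x) (πP x) + A₀ (πC x) (πC x) = 0
      rw [halt _ (Submodule.projection_apply_mem _ _), hA0, add_zero]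
    · intro g x hx y hy
      obtain ⟨a, ha, _, ⟨u, hu, rfl⟩, rfl⟩ := Submodule.mem_sup.1 hx
      obtain ⟨a', ha', _, ⟨u', hu', rfl⟩, rfl⟩ := Submodule.mem_sup.1 hy
      show b (πP (ρ g (a + u))) (πP (ρ g (a' + u'))) + A₀ (πC (ρ g (a + u))) (πC (ρ g (a' + u'))) =
        b (πP (a + u)) (πP (a' + u')) + A₀ (πC (a + u)) (πC (a' + u'))
      have e1 : ρ g (a + (u : V)) = ρ g a + ((ρC g u : C) : V) := map_add _ _ _
      have e2 : ρ g (a' + (u' : V)) = ρ g a' + ((ρC g u' : C) : V) := map_add _ _ _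
      rw [e1, e2, (hadd _ (hP g a ha) _).1, (hadd _ (hP g a' ha') _).1, (hadd _ (hP g a ha) _).2,
        (hadd _ (hP g a' ha') _).2, (hadd a ha u).1, (hadd a' ha' u').1, (hadd a ha u).2,
        (hadd a' ha' u').2, hbinv g a ha a' ha', hAinv g u hu u' hu']
    · intro x hx h
      obtain ⟨a, ha, _, ⟨u, hu, rfl⟩, rfl⟩ := Submodule.mem_sup.1 hx
      have ha0 : a = 0 := hbnd a ha fun y hy => by
        have h3 : b (πP (a + u)) (πP (y + (0 : C))) + A₀ (πC (a + u)) (πC (y + (0 : C))) = 0 :=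
          h _ (Submodule.add_mem_sup hy ⟨0, U₀.zero_mem, rfl⟩)
        rw [(hadd a ha u).1, (hadd a ha u).2, (hadd y hy 0).1, (hadd y hy 0).2, map_zero,
          add_zero] at h3
        exact h3
      have hu0 : u = 0 := hAnd u hu fun y hy => by
        have h3 : b (πP (a + u)) (πP (0 + (y : V))) + A₀ (πC (a + u)) (πC (0 + (y : V))) = 0 :=
          h _ (Submodule.add_mem_sup P.zero_mem ⟨y, hy, rfl⟩)
        rw [(hadd a ha u).1, (hadd a ha u).2, (hadd 0 P.zero_mem y).1, (hadd 0 P.zero_mem y).2,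
          map_zero, zero_add] at h3
        exact h3
      rw [ha0, hu0]; simp
    · rintro g _ ⟨u, hu, rfl⟩ _ ⟨u', hu', rfl⟩
      show S₀ (πC ((ρC g u : C) : V)) (πC ((ρC g u' : C) : V)) = S₀ (πC (u : V)) (πC (u' : V))
      simp only [πC, Submodule.projectionOnto_apply_left]
      exact hSinv g u hu u' hu'
    · rintro _ ⟨u, hu, rfl⟩ h
      rw [show u = 0 from hSnd u hu fun y hy => by
        have h3 : S₀ (πC (u : V)) (πC (y : V)) = 0 := h _ ⟨y, hy, rfl⟩
        simpa [πC] using h3]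
      rfl
    · rintro hp g _ ⟨u, hu, rfl⟩
      exact congrArg Subtype.val (h2 hp g u hu)
  · -- symmetric piece
    refine ⟨U₁, P ⊔ W₁, (hcompl _ _ hc₀.symm).symm, hU₁, inv_sup hP hW₁, ⟨A₀.compl₁₂ πC πC,
      fun x => hA0 _, ?_, ?_⟩, ⟨b.compl₁₂ πP πP + S₀.compl₁₂ πC πC, fun x y => ?_, ?_, ?_⟩, ?_⟩
    · rintro g _ ⟨u, hu, rfl⟩ _ ⟨u', hu', rfl⟩
      show A₀ (πC ((ρC g u : C) : V)) (πC ((ρC g u' : C) : V)) = A₀ (πC (u : V)) (πC (u' : V))
      simp only [πC, Submodule.projectionOnto_apply_left]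
      exact hAinv g u hu u' hu'
    · rintro _ ⟨u, hu, rfl⟩ h
      rw [show u = 0 from hAnd u hu fun y hy => by
        have h3 : A₀ (πC (u : V)) (πC (y : V)) = 0 := h _ ⟨y, hy, rfl⟩
        simpa [πC] using h3]
      rfl
    · show b (πP x) (πP y) + S₀ (πC x) (πC y) = b (πP y) (πP x) + S₀ (πC y) (πC x)
      rw [hsym _ (Submodule.projection_apply_mem _ _) _ (Submodule.projection_apply_mem _ _), hS0]
    · intro g x hx y hy
      obtain ⟨a, ha, _, ⟨u, hu, rfl⟩, rfl⟩ := Submodule.mem_sup.1 hx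
      obtain ⟨a', ha', _, ⟨u', hu', rfl⟩, rfl⟩ := Submodule.mem_sup.1 hy
      show b (πP (ρ g (a + u))) (πP (ρ g (a' + u'))) + S₀ (πC (ρ g (a + u))) (πC (ρ g (a' + u'))) =
        b (πP (a + u)) (πP (a' + u')) + S₀ (πC (a + u)) (πC (a' + u'))
      have e1 : ρ g (a + (u : V)) = ρ g a + ((ρC g u : C) : V) := map_add _ _ _
      have e2 : ρ g (a' + (u' : V)) = ρ g a' + ((ρC g u' : C) : V) := map_add _ _ _
      rw [e1, e2, (hadd _ (hP g a ha) _).1, (hadd _ (hP g a' ha') _).1, (hadd _ (hP g a ha) _).2,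
        (hadd _ (hP g a' ha') _).2, (hadd a ha u).1, (hadd a' ha' u').1, (hadd a ha u).2,
        (hadd a' ha' u').2, hbinv g a ha a' ha', hSinv g u hu u' hu']
    · intro x hx h
      obtain ⟨a, ha, _, ⟨u, hu, rfl⟩, rfl⟩ := Submodule.mem_sup.1 hx
      have ha0 : a = 0 := hbnd a ha fun y hy => by
        have h3 : b (πP (a + u)) (πP (y + (0 : C))) + S₀ (πC (a + u)) (πC (y + (0 : C))) = 0 :=
          h _ (Submodule.add_mem_sup hy ⟨0, W₀.zero_mem, rfl⟩)
        rw [(hadd a ha u).1, (hadd a ha u).2, (hadd y hy 0).1, (hadd y hy 0).2, map_zero,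
          add_zero] at h3
        exact h3
      have hu0 : u = 0 := hSnd u hu fun y hy => by
        have h3 : b (πP (a + u)) (πP (0 + (y : V))) + S₀ (πC (a + u)) (πC (0 + (y : V))) = 0 :=
          h _ (Submodule.add_mem_sup P.zero_mem ⟨y, hy, rfl⟩)
        rw [(hadd a ha u).1, (hadd a ha u).2, (hadd 0 P.zero_mem y).1, (hadd 0 P.zero_mem y).2,
          map_zero, zero_add] at h3
        exact h3
      rw [ha0, hu0]; simp
    · intro hp g x hx
      obtain ⟨a, ha, _, ⟨u, hu, rfl⟩, rfl⟩ := Submodule.mem_sup.1 hx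
      rw [map_add, htriv hp g a ha]
      exact congrArg (a + ·) (congrArg Subtype.val (h2 hp g u hu))

end Cfsg.Agent.SelfDual
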