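import Mathlib

/-!
# Faithful irreducible representations of abelian groups over finite fields

Such a module is a finite field on which the group acts by multiplication; it is self-dual exactly
when inversion on the group is induced by a Galois automorphism.
-/

namespace Cfsg.Agent.SelfDual

open Module Polynomial
open LinearMap (BilinForm)

variable {F : Type*} [Field F] [Fintype F] {H : Type*} [CommGroup H] [Finite H]
  {K : Type*} [Field K] [Algebra F K] [Finite K]
  {V : Type*} [AddCommGroup V] [Module F V]

theorem frobenius_pow_apply (j : ℕ) (a : K) :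
    (FiniteField.frobeniusAlgEquivOfAlgebraic F K ^ j) a = a ^ Fintype.card F ^ j := by
  rw [AlgEquiv.coe_pow, FiniteField.coe_frobeniusAlgEquivOfAlgebraic_iterate]

/-- The classification over the field. -/
theorem selfDual_field (χ : H →* K) (hχ : Function.Injective χ)
    (hgen : Algebra.adjoin F (Set.range χ) = ⊤) (e : K ≃ₗ[F] V) (ρ : Representation F H V)
    (he : ∀ h a, e (χ h * a) = ρ h (e a)) :
    (finrank F V = 1 →
      (∃ B : BilinForm F V, B.Nondegenerate ∧ ∀ h x y, B (ρ h x) (ρ h y) = B x y) →
        Nat.card H ≤ 2) ∧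
      (2 ≤ finrank F V →
        ((∃ B : BilinForm F V, B.Nondegenerate ∧ ∀ h x y, B (ρ h x) (ρ h y) = B x y) ↔
          (Even (finrank F V) ∧
            Nat.card H ∣ Fintype.card F ^ (finrank F V / 2) + 1))) := by
  classical
  have := Fintype.ofFinite K
  have : FiniteDimensional F K := Module.Finite.of_finite
  have hnF : finrank F V = finrank F K := e.finrank_eq.symm
  set n := finrank F K with hn
  have hn0 : 0 < n := Module.finrank_pos
  set r := Fintype.card F
  have : IsCyclic H := isCyclic_of_injective_ringHom χ hχ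
  obtain ⟨g, hg⟩ := IsCyclic.exists_generator (α := H)
  have hord : orderOf g = Nat.card H := orderOf_eq_card_of_forall_mem_zpowers hg
  set m := Nat.card H with hm
  have hpowg : ∀ h : H, ∃ i : ℕ, g ^ i = h := fun h =>
    mem_powers_iff_mem_zpowers.2 (hg h)
  have hne : χ g ≠ 0 := by
    intro h0
    have h1 := congrArg χ (inv_mul_cancel g)
    rw [map_mul, h0, mul_zero, map_one] at h1
    exact zero_ne_one h1
  have hordK : orderOf (χ g) = m := by rw [orderOf_injective χ hχ, hord]
  -- a power of Frobenius fixing the generator fixes everything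
  have hfix : ∀ j, χ g ^ r ^ j = χ g → n ∣ j := by
    intro j hj
    have h1 : Algebra.adjoin F (Set.range χ) ≤
        AlgHom.equalizer (FiniteField.frobeniusAlgEquivOfAlgebraic F K ^ j).toAlgHom
          (AlgHom.id F K) := by
      refine Algebra.adjoin_le ?_
      rintro _ ⟨h, rfl⟩
      obtain ⟨i, rfl⟩ := hpowg h
      show (FiniteField.frobeniusAlgEquivOfAlgebraic F K ^ j) (χ (g ^ i)) = χ (g ^ i)
      rw [map_pow χ, map_pow, frobenius_pow_apply, hj]
    have h2 : FiniteField.frobeniusAlgEquivOfAlgebraic F K ^ j = 1 := AlgEquiv.ext fun a => by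
      have : a ∈ AlgHom.equalizer (FiniteField.frobeniusAlgEquivOfAlgebraic F K ^ j).toAlgHom
          (AlgHom.id F K) := h1 (hgen.symm ▸ Algebra.mem_top)
      exact this
    rw [hn, ← FiniteField.orderOf_frobeniusAlgEquivOfAlgebraic F K]
    exact orderOf_dvd_of_pow_eq_one h2
  have hmn : χ g ^ r ^ n = χ g := by
    rw [← Module.card_eq_pow_finrank (K := F) (V := K), FiniteField.pow_card]
  -- self-duality gives a Galois automorphism inverting the generator
  have hforward : (∃ B : BilinForm F V, B.Nondegenerate ∧ ∀ h x y, B (ρ h x) (ρ h y) = B x y) →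
      ∃ j, j < n ∧ χ g ^ r ^ j = (χ g)⁻¹ := by
    rintro ⟨B, hB, hinv⟩
    let B' : BilinForm F K := B.compl₁₂ e.toLinearMap e.toLinearMap
    have hB'inv : ∀ a b, B' (χ g * a) b = B' a ((χ g)⁻¹ * b) := by
      intro a b
      show B (e (χ g * a)) (e b) = B (e a) (e ((χ g)⁻¹ * b))
      conv_lhs => rw [show b = χ g * ((χ g)⁻¹ * b) by rw [mul_inv_cancel_left₀ hne]]
      rw [he, he, hinv]
    have hpoly : ∀ (P : F[X]) a b, B' (aeval (χ g) P * a) b = B' a (aeval (χ g)⁻¹ P * b) := by
      intro P
      induction P using Polynomial.induction_on' with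
      | add P Q hP hQ =>
        intro a b
        rw [map_add, map_add, add_mul, add_mul, map_add, LinearMap.add_apply, map_add, hP, hQ]
      | monomial i c =>
        intro a b
        rw [aeval_monomial, aeval_monomial, ← Algebra.smul_def, ← Algebra.smul_def, smul_mul_assoc,
          smul_mul_assoc, map_smul, LinearMap.smul_apply, map_smul]
        congr 1
        induction i generalizing a b with
        | zero => simp
        | succ i ih => rw [pow_succ, pow_succ', mul_assoc, ih, hB'inv, mul_assoc]
    have hroot : aeval (χ g)⁻¹ (minpoly F (χ g)) = 0 := by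
      have h1 : ∀ a, B' a (aeval (χ g)⁻¹ (minpoly F (χ g)) * 1) = 0 := fun a => by
        rw [← hpoly, minpoly.aeval, zero_mul, map_zero, LinearMap.zero_apply]
      rw [mul_one] at h1
      apply e.injective
      rw [map_zero]
      refine hB.2 _ fun x => ?_
      obtain ⟨a, rfl⟩ := e.surjective x
      exact h1 a
    obtain ⟨σ, hσ⟩ := (isConjRoot_of_aeval_eq_zero
      (IsIntegral.of_finite F (χ g)) hroot).symm.exists_algEquiv
    obtain ⟨⟨j, hj⟩, hjσ⟩ := (FiniteField.bijective_frobeniusAlgEquivOfAlgebraic_pow F K).2 σ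
    refine ⟨j, hj, ?_⟩
    rw [← hσ, ← hjσ, frobenius_pow_apply]
  have hshape : ∀ j, j < n → χ g ^ r ^ j = (χ g)⁻¹ →
      (j = 0 ∧ n = 1 ∧ m ≤ 2) ∨ (2 * j = n ∧ m ∣ r ^ j + 1) := by
    intro j hj hjg
    have hdvd : m ∣ r ^ j + 1 := by
      rw [← hordK]
      exact orderOf_dvd_of_pow_eq_one (by rw [pow_succ, hjg, inv_mul_cancel₀ hne])
    have h2 : n ∣ 2 * j := hfix _ (by
      rw [two_mul, pow_add, pow_mul, hjg, inv_pow, hjg, inv_inv])
    rcases Nat.eq_zero_or_pos j with rfl | hj0
    · left
      rw [pow_zero, pow_one] at hjg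
      have hsq : χ g ^ 2 = 1 := by
        conv_lhs => rw [pow_two]; arg 2; rw [hjg]
        exact mul_inv_cancel₀ hne
      have h1 : n ∣ 1 := hfix 1 (by
        rw [pow_one]
        have hr : r = 2 * (r / 2) + r % 2 := (Nat.div_add_mod _ _).symm
        rcases Nat.mod_two_eq_zero_or_one r with h | h
        · have hchar : (2 : K) = 0 := by
            have h3 : ((r : ℕ) : F) = 0 := FiniteField.cast_card_eq_zero F
            obtain ⟨q, hq⟩ := CharP.exists F
            have hqp : q.Prime := CharP.char_is_prime F q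
            obtain ⟨s, -, hs⟩ := FiniteField.card F q
            have h4 : 2 ∣ q ^ (s : ℕ) := hs ▸ Nat.dvd_of_mod_eq_zero h
            have h5 : q = 2 := ((Nat.prime_dvd_prime_iff_eq Nat.prime_two hqp).1
              (Nat.prime_two.dvd_of_dvd_pow h4)).symm
            subst h5
            have h6 : (2 : F) = 0 := by
              exact_mod_cast (CharP.cast_eq_zero F 2)
            rw [show (2 : K) = algebraMap F K 2 by simp [map_ofNat], h6, map_zero]
          have hg1 : χ g = 1 := by
            have h7 : (χ g - 1) ^ 2 = 0 := by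
              linear_combination hsq + (1 - χ g) * hchar
            exact sub_eq_zero.1 (pow_eq_zero_iff (two_ne_zero) |>.1 h7)
          rw [hg1, one_pow]
        · rw [hr, pow_add, pow_mul, hsq, one_pow, one_mul, h, pow_one])
      refine ⟨rfl, Nat.dvd_one.1 h1, ?_⟩
      rw [← hordK]
      exact Nat.le_of_dvd two_pos (orderOf_dvd_of_pow_eq_one hsq)
    · right
      refine ⟨?_, hdvd⟩
      obtain ⟨q, hq⟩ := h2
      rcases q with - | - | q
      · omega
      · omega
      · nlinarith
  have hbackward : ∀ j, m ∣ r ^ j + 1 →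
      ∃ B : BilinForm F V, B.Nondegenerate ∧ ∀ h x y, B (ρ h x) (ρ h y) = B x y := by
    intro j hj
    set σ := FiniteField.frobeniusAlgEquivOfAlgebraic F K ^ j
    let B : BilinForm F V := (Algebra.traceForm F K).compl₁₂ e.symm.toLinearMap
      (σ.toLinearMap ∘ₗ e.symm.toLinearMap)
    have hBdef : ∀ x y, B x y = Algebra.trace F K (e.symm x * σ (e.symm y)) := fun x y => rfl
    refine ⟨B, ⟨fun x h => ?_, fun y h => ?_⟩, fun h x y => ?_⟩
    · apply e.symm.injective
      rw [map_zero]
      refine (traceForm_nondegenerate F K).1 _ fun z => ?_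
      have h1 := h (e (σ.symm z))
      rw [hBdef, e.symm_apply_apply, AlgEquiv.apply_symm_apply] at h1
      exact h1
    · apply e.symm.injective
      apply σ.injective
      rw [map_zero, map_zero]
      refine (traceForm_nondegenerate F K).2 _ fun z => ?_
      have h1 := h (e z)
      rw [hBdef, e.symm_apply_apply] at h1
      exact h1
    · have hs : ∀ x, e.symm (ρ h x) = χ h * e.symm x := fun x => e.injective (by
        rw [e.apply_symm_apply, he, e.apply_symm_apply])
      rw [hBdef, hBdef, hs, hs, map_mul σ, show σ (χ h) = χ h ^ r ^ j from frobenius_pow_apply j _,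
        mul_mul_mul_comm, ← pow_succ']
      have h2 : χ h ^ (r ^ j + 1) = 1 := by
        rw [← map_pow, orderOf_dvd_iff_pow_eq_one.1 ((orderOf_dvd_natCard h).trans hj), map_one]
      rw [h2, one_mul]
  refine ⟨fun h1 hB => ?_, fun h2 => ⟨fun hB => ?_, fun ⟨_, hd⟩ => hbackward _ hd⟩⟩
  · obtain ⟨j, hj, hjg⟩ := hforward hB
    rcases hshape j hj hjg with ⟨-, -, hm2⟩ | ⟨hj2, -⟩
    · exact hm2
    · omega
  · obtain ⟨j, hj, hjg⟩ := hforward hB
    rcases hshape j hj hjg with ⟨-, hn1, -⟩ | ⟨hj2, hd⟩
    · omega
    · refine ⟨⟨j, by omega⟩, ?_⟩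
      rwa [show finrank F V / 2 = j by omega]

/-- The reduction to the field. -/
theorem selfDual_abelian {H : Type*} [CommGroup H] [Finite H] [FiniteDimensional F V]
    (ρ : Representation F H V) (hfaith : Function.Injective ρ)
    (hirr : ∀ U : Submodule F V, (∀ h, ∀ u ∈ U, ρ h u ∈ U) → U = ⊥ ∨ U = ⊤) :
    (finrank F V = 1 →
      (∃ B : BilinForm F V, B.Nondegenerate ∧ ∀ h x y, B (ρ h x) (ρ h y) = B x y) →
        Nat.card H ≤ 2) ∧
      (2 ≤ finrank F V →
        ((∃ B : BilinForm F V, B.Nondegenerate ∧ ∀ h x y, B (ρ h x) (ρ h y) = B x y) ↔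
          (Even (finrank F V) ∧
            Nat.card H ∣ Fintype.card F ^ (finrank F V / 2) + 1))) := by
  classical
  rcases Nat.eq_zero_or_pos (finrank F V) with h0 | h0
  · exact ⟨fun h => by omega, fun h => by omega⟩
  have : Nontrivial V := Module.nontrivial_of_finrank_pos h0
  have : Finite V := Module.finite_of_finite F
  let R : Subalgebra F (Module.End F V) := Algebra.adjoin F (Set.range ρ)
  have hcommR : ∀ a ∈ R, ∀ b ∈ R, a * b = b * a := by
    have h1 : ∀ a ∈ R, ∀ h, Commute a (ρ h) := fun a ha h => by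
      induction ha using Algebra.adjoin_induction with
      | mem x hx =>
        obtain ⟨h', rfl⟩ := hx
        rw [Commute, SemiconjBy, ← map_mul, ← map_mul, mul_comm]
      | algebraMap r => exact Algebra.commute_algebraMap_left r _
      | add x y _ _ hx hy => exact hx.add_left hy
      | mul x y _ _ hx hy => exact hx.mul_left hy
    intro a ha b hb
    induction hb using Algebra.adjoin_induction with
    | mem x hx => obtain ⟨h', rfl⟩ := hx; exact h1 a ha h'
    | algebraMap r => exact (Algebra.commute_algebraMap_right r a)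
    | add x y _ _ hx hy => rw [mul_add, add_mul, hx, hy]
    | mul x y _ _ hx hy => rw [← mul_assoc, hx, mul_assoc, hy, mul_assoc]
  letI : CommRing R :=
    { (inferInstance : Ring R) with mul_comm := fun a b => Subtype.ext (hcommR a a.2 b b.2) }
  have hinjR : ∀ a : R, a ≠ 0 → Function.Injective (a : Module.End F V) := by
    intro a ha
    rcases hirr (LinearMap.ker (a : Module.End F V)) (fun h u hu => by
      rw [LinearMap.mem_ker] at hu ⊢
      rw [← Module.End.mul_apply, hcommR a a.2 (ρ h) (Algebra.subset_adjoin ⟨h, rfl⟩),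
        Module.End.mul_apply, hu, map_zero]) with h | h
    · exact LinearMap.ker_eq_bot.1 h
    · exact absurd (Subtype.ext (LinearMap.ker_eq_top.1 h)) ha
  have : Nontrivial R := ⟨⟨0, 1, fun h => zero_ne_one (congrArg Subtype.val h)⟩⟩
  have : NoZeroDivisors R := ⟨fun {a b} hab => by
    by_contra hne
    push Not at hne
    obtain ⟨v, hv⟩ := exists_ne (0 : V)
    have h1 : ((a : Module.End F V) * b) v = 0 := by
      rw [← Subalgebra.coe_mul, hab]; rfl
    exact hv (hinjR b hne.2 ((hinjR a hne.1 (h1.trans (map_zero _).symm)).trans (map_zero _).symm))⟩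
  have : IsDomain R := NoZeroDivisors.to_isDomain R
  have : Finite (Module.End F V) := Finite.of_injective (fun f => (f : V → V)) DFunLike.coe_injective
  have : Finite R := Finite.of_injective (fun a : R => (a : Module.End F V)) Subtype.val_injective
  letI : Field R := (Finite.isField_of_domain R).toField
  obtain ⟨v₀, hv₀⟩ := exists_ne (0 : V)
  let f : R →ₗ[F] V := (LinearMap.applyₗ v₀) ∘ₗ R.val.toLinearMap
  have hf : Function.Injective f := by
    rw [injective_iff_map_eq_zero]
    intro a ha
    by_contra hne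
    exact hv₀ (hinjR a hne (ha.trans (map_zero _).symm))
  have hf' : Function.Surjective f := by
    rcases hirr (LinearMap.range f) (fun h u hu => by
      obtain ⟨a, rfl⟩ := hu
      exact ⟨⟨ρ h, Algebra.subset_adjoin ⟨h, rfl⟩⟩ * a, rfl⟩) with h | h
    · have h1 : v₀ ∈ LinearMap.range f := ⟨1, rfl⟩
      rw [h, Submodule.mem_bot] at h1
      exact absurd h1 hv₀
    · exact LinearMap.range_eq_top.1 h
  let χ : H →* R :=
    { toFun := fun h => ⟨ρ h, Algebra.subset_adjoin ⟨h, rfl⟩⟩
      map_one' := Subtype.ext (map_one ρ)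
      map_mul' := fun a b => Subtype.ext (map_mul ρ a b) }
  refine selfDual_field χ (fun a b e => hfaith (congrArg Subtype.val e)) ?_
    (LinearEquiv.ofBijective f ⟨hf, hf'⟩) ρ fun h a => rfl
  refine Subalgebra.map_injective (f := R.val) Subtype.val_injective ?_
  rw [AlgHom.map_adjoin, Algebra.map_top, Subalgebra.range_val, ← Set.range_comp]
  rfl

end Cfsg.Agent.SelfDual
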